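import Groth.Agent.AmpleThLib.VeryAmple
import Groth.Prelude.Def_CurvBase

/-!
# Sections of very ample modules and residue-field points
-/

set_option autoImplicit false
universe u

open CategoryTheory CategoryTheory.Limits AlgebraicGeometry TopologicalSpace Opposite
open ChowLib RelProjLib AmpleLib

noncomputable section

namespace VASecLib

variable {X : Scheme.{u}} {n : ℕ}

/-- evaluation along a point over a field -/
def evF {K : CommRingCat.{u}} (f : Spec K ⟶ X) (W : X.Opens) (h : ⊤ ≤ f ⁻¹ᵁ W) : Γ(X, W) →+* K :=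
  ((Scheme.ΓSpecIso K).hom.hom).comp (f.appLE W ⊤ h).hom

lemma comp_eq_pt {Y : Scheme.{u}} (f : Y ⟶ X) (r : X ⟶ PZ.{u} n) (a : Fin (n + 1)) (W : X.Opens)
    (hW : W ≤ r ⁻¹ᵁ Dplus a) (h : ⊤ ≤ f ⁻¹ᵁ W) :
    f ≫ r = pt (fun j => f.appLE W ⊤ h (coord r a j hW)) a
      (by rw [coord_self, map_one]; exact isUnit_one) := by
  have hr : Set.range f ⊆ Set.range W.ι := by
    rw [Scheme.Opens.range_ι]
    rintro _ ⟨z, rfl⟩
    exact h (Set.mem_univ z)
  have key : ∀ (f' : Y ⟶ W.toScheme) (g : Y ⟶ X) (hg : g = f' ≫ W.ι) (h' : ⊤ ≤ g ⁻¹ᵁ W) (c : Γ(X, W)),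
      g.appLE W ⊤ h' c = f'.appTop (W.topIso.inv c) := by
    intro f' g hg h' c
    subst hg
    have h2 : ⊤ ≤ W.ι ⁻¹ᵁ W := by simp
    have e : W.ι.appLE W ⊤ h2 = W.topIso.inv := by
      simp [Scheme.Hom.appLE, Scheme.Opens.topIso_inv]
      erw [← Functor.map_comp]
      rfl
    rw [← Scheme.Hom.appLE_comp_appLE f' W.ι W ⊤ ⊤ h2 (by simp), e]
    simp [Scheme.Hom.appLE]
  conv_lhs => rw [← IsOpenImmersion.lift_fac W.ι f hr, Category.assoc, ι_comp_q r a hW, comp_pt]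
  congr 1
  funext j
  exact (key _ f (IsOpenImmersion.lift_fac W.ι f hr).symm h _).symm

lemma le_preimage_point (y : X) (W : X.Opens) (hy : y ∈ W) : ⊤ ≤ X.fromSpecResidueField y ⁻¹ᵁ W :=
  fun z _ => by
    change X.fromSpecResidueField y z ∈ W
    rw [Scheme.fromSpecResidueField_apply]
    exact hy

lemma evF_point (y : X) (W : X.Opens) (hy : y ∈ W) (c : Γ(X, W)) :
    evF (X.fromSpecResidueField y) W (le_preimage_point y W hy) c = X.evaluation W y hy c := by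
  have : (X.fromSpecResidueField y).appLE W ⊤ (le_preimage_point y W hy) ≫ (Scheme.ΓSpecIso _).hom =
      X.evaluation W y hy := by
    rw [← Scheme.germ_residue]
    have h2 : ⊤ ≤ X.fromSpecStalk y ⁻¹ᵁ W := by
      intro z _
      exact W.2.stableUnderGeneralization
        ((X.range_fromSpecStalk (x := y)).le ⟨z, rfl⟩) hy
    have e1 : (X.fromSpecStalk y).appLE W ⊤ h2 =
        X.presheaf.germ W y hy ≫ (Scheme.ΓSpecIso _).inv := by
      rw [Scheme.Hom.appLE, Scheme.fromSpecStalk_app hy, Category.assoc, Category.assoc, ← Functor.map_comp]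
      conv_lhs => enter [2, 2]; rw [show (_ ≫ _) = 𝟙 (op (⊤ : (Spec (X.presheaf.stalk y)).Opens)) from Subsingleton.elim _ _]
      rw [CategoryTheory.Functor.map_id, Category.comp_id]
    have e2 : (Spec.map (X.residue y)).appLE ⊤ ⊤ (by simp) = (Spec.map (X.residue y)).appTop := by
      simp [Scheme.Hom.appLE]
    change (Spec.map (X.residue y) ≫ X.fromSpecStalk y).appLE W ⊤ _ ≫ _ = _
    rw [← Scheme.Hom.appLE_comp_appLE (Spec.map (X.residue y)) (X.fromSpecStalk y) W ⊤ ⊤ h2 (by simp),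
      e1, e2]
    simp only [Category.assoc, Scheme.ΓSpecIso_naturality, Iso.inv_hom_id_assoc]
  exact congr($this c)

lemma appTop_point (y : X) :
    (X.fromSpecResidueField y).appTop ≫ (Scheme.ΓSpecIso _).hom = X.Γevaluation y := by
  rw [Scheme.Γevaluation, ← Scheme.germ_residue]
  simp [Scheme.fromSpecResidueField, Scheme.fromSpecStalk_appTop]

lemma evF_comp {K L : CommRingCat.{u}} (f : Spec K ⟶ X) (g : K ⟶ L) (W : X.Opens) (h : ⊤ ≤ f ⁻¹ᵁ W)
    (h' : ⊤ ≤ (Spec.map g ≫ f) ⁻¹ᵁ W) (c : Γ(X, W)) :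
    evF (Spec.map g ≫ f) W h' c = g (evF f W h c) := by
  have : (Spec.map g ≫ f).appLE W ⊤ h' ≫ (Scheme.ΓSpecIso L).hom =
      (f.appLE W ⊤ h ≫ (Scheme.ΓSpecIso K).hom) ≫ g := by
    rw [← Scheme.Hom.appLE_comp_appLE (Spec.map g) f W ⊤ ⊤ h (by simp), Category.assoc, Category.assoc,
      ← Scheme.ΓSpecIso_naturality g]
    simp [Scheme.Hom.appLE]
  exact congr($this c)

/-- two field points with the same coordinates -/
lemma comp_eq_of_evF {K : CommRingCat.{u}} (f g : Spec K ⟶ X) (r : X ⟶ PZ.{u} n) (a : Fin (n + 1))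
    (hf : ⊤ ≤ f ⁻¹ᵁ (r ⁻¹ᵁ Dplus a)) (hg : ⊤ ≤ g ⁻¹ᵁ (r ⁻¹ᵁ Dplus a))
    (h : ∀ j, evF f _ hf (coord r a j le_rfl) = evF g _ hg (coord r a j le_rfl)) : f ≫ r = g ≫ r := by
  rw [comp_eq_pt f r a _ le_rfl hf, comp_eq_pt g r a _ le_rfl hg]
  congr 1
  funext j
  exact (ConcreteCategory.bijective_of_isIso (Scheme.ΓSpecIso K).hom).1 (h j)

variable (k : Type u) [Field k] [X.Over (Spec (CommRingCat.of k))]

lemma resMap_apply (y : X) (c : k) :
    Curv2.resMap k X y c = X.Γevaluation y (Coh.toGlobal (X ↘ Spec (CommRingCat.of k)) c) := rfl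

lemma point_comp_over (y : X) :
    X.fromSpecResidueField y ≫ (X ↘ Spec (CommRingCat.of k)) =
      Spec.map (CommRingCat.ofHom (Curv2.resMap k X y)) := by
  obtain ⟨φ, hφ⟩ : ∃ φ, Spec.map φ =
      X.fromSpecResidueField y ≫ (X ↘ Spec (CommRingCat.of k)) := ⟨_, Spec.map_preimage _⟩
  rw [← hφ]
  congr 1
  have h1 := congrArg Scheme.Hom.appTop hφ
  rw [Scheme.Hom.comp_appTop] at h1
  have h2 : φ = (Scheme.ΓSpecIso _).inv ≫ (Spec.map φ).appTop ≫ (Scheme.ΓSpecIso _).hom := by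
    rw [Scheme.ΓSpecIso_naturality, Iso.inv_hom_id_assoc]
  rw [h2, h1, Category.assoc, appTop_point]
  rfl

end VASecLib

end
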